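import Cfsg.Agent.H1.J2Cover
import Cfsg.Agent.NotCT.Orders
import Cfsg.Agent.H140.TC.Fam
import Cfsg.Agent.H51.XX.Base

/-!
# Every nontrivial element of the Hall-Janko group is a product of two elements of order 7 (helper300, S4173, S2464)

Every element is conjugate to one of 21 words (`H1/J2Cover.lean`); the product of conjugates is explicit.
-/

set_option autoImplicit false

namespace Cfsg.Agent.H300.TC.JTwo

open Cfsg Cfsg.Agent.SporadicA.PermTab Cfsg.Agent.SporadicA.J2Hundred Cfsg.Agent.J2.HundredGens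
open Cfsg.Agent.H1.J2Cls Cfsg.Agent.H1.J2Cover

universe u

/-- the word of order 7 -/
def aw : List ℕ := [4, 3, 1, 2, 3, 1, 2, 1, 0]

/-- the pairs of conjugating words -/
def pr (j : ℕ) : List ℕ × List ℕ :=
  match j with
  | 0 => ([], [])
  | 1 => ([1], [4, 1, 2, 0])
  | 2 => ([2, 3, 4, 1, 0, 1, 2, 3, 0, 1, 2, 3, 0], [4, 3, 2, 3, 1, 2, 3, 4, 2])
  | 3 => ([2, 1, 0, 1], [4, 2, 0, 1, 0, 1, 2, 0])
  | 4 => ([3, 2, 3], [2, 3, 1, 2, 3])
  | 5 => ([1, 2, 3, 2, 1, 0, 1, 2, 3], [4, 3, 2, 3, 1, 2, 3, 4, 3, 2])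
  | 6 => ([3], [4, 0])
  | 7 => ([0], [4, 1, 2, 1, 0, 1])
  | 8 => ([2, 3, 1], [1, 2, 3, 4, 0, 1, 2, 3, 1, 2, 3, 1, 2, 3, 4, 3, 2])
  | 9 => ([2, 3], [3, 2, 3, 4, 2])
  | 10 => ([1, 0, 1, 2, 3, 2, 3, 4], [3, 4, 2, 3, 1, 2, 3, 1, 2, 3, 1, 2])
  | 11 => ([1, 2, 3], [1, 2, 3, 0, 1, 2, 3, 0, 1, 2])
  | 12 => ([2, 3, 2, 1, 0, 1, 2, 3, 4, 2], [3, 1, 2, 3, 1, 0, 1, 2, 1])
  | 13 => ([3, 2, 0], [4, 1, 0, 1, 2])
  | 14 => ([4, 2, 3, 2, 1], [3, 4, 3, 1])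
  | 15 => ([4, 1, 0], [4, 2, 3, 2])
  | 16 => ([2, 3, 2, 1], [3, 4, 2, 0, 1, 0, 1, 2])
  | 17 => ([3, 2, 1], [4, 1, 2, 1])
  | 18 => ([3, 4, 2, 1], [4, 2, 3, 2, 1, 0, 1, 2, 3, 4, 3, 2, 3, 1])
  | 19 => ([4], [0, 1, 2, 3])
  | _ => ([1, 2, 3, 1], [3, 4, 3, 0, 1, 2, 3])

/-- the product of the conjugates -/
def cw (A B : List ℕ) : List ℕ := A ++ aw ++ A.reverse ++ (B ++ aw ++ B.reverse)

theorem gw_cw (A B : List ℕ) : gw (cw A B) = (gw A * gw aw * (gw A)⁻¹) * (gw B * gw aw * (gw B)⁻¹) := by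
  rw [cw, gw_append, gw_append, gw_append, gw_append, gw_append, gw_reverse, gw_reverse]

set_option maxRecDepth 100000 in
theorem chk_pr : ∀ j < 20, ∀ i < 4, run (rL (j + 1)) (bs i) = run (cw (pr (j + 1)).1 (pr (j + 1)).2) (bs i) := by
  decide +kernel

set_option maxRecDepth 100000 in
theorem chk_a : ∀ i < 4, run (aw ++ aw ++ aw ++ aw ++ aw ++ aw ++ aw) (bs i) = run [] (bs i) := by decide +kernel

theorem rL_zero : rL 0 = [] := by decide +kernel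

theorem gw_aw : gw aw ^ 7 = 1 := by
  have h : gw (aw ++ aw ++ aw ++ aw ++ aw ++ aw ++ aw) = gw [] := Subtype.ext (pw_eq_of_base chk_a)
  rw [gw_append, gw_append, gw_append, gw_append, gw_append, gw_append] at h
  have h0 : gw [] = 1 := Subtype.ext rfl
  rw [h0] at h
  rw [← h]
  simp only [pow_succ, pow_zero, one_mul, mul_assoc]

theorem tc_model (g : G) (hg : g ≠ 1) : ∃ u v : G, g = (u * gw aw * u⁻¹) * (v * gw aw * v⁻¹) := by
  obtain ⟨j, hj, c, hc⟩ := cover g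
  have hj0 : j ≠ 0 := by
    rintro rfl
    apply hg
    rw [rL_zero] at hc
    have h0 : gw [] = 1 := Subtype.ext rfl
    rw [h0] at hc
    have h2 : g = c⁻¹ * (c * g * c⁻¹) * c := by group
    rw [h2, hc]
    group
  obtain ⟨i, rfl⟩ : ∃ i, j = i + 1 := ⟨j - 1, by omega⟩
  have h : gw (rL (i + 1)) = (gw (pr (i + 1)).1 * gw aw * (gw (pr (i + 1)).1)⁻¹) *
      (gw (pr (i + 1)).2 * gw aw * (gw (pr (i + 1)).2)⁻¹) := by
    rw [← gw_cw]
    exact Subtype.ext (pw_eq_of_base (chk_pr i (by omega)))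
  rw [← hc] at h
  have h2 : g = c⁻¹ * (c * g * c⁻¹) * c := by group
  rw [h] at h2
  refine ⟨c⁻¹ * gw (pr (i + 1)).1, c⁻¹ * gw (pr (i + 1)).2, h2.trans ?_⟩
  group

theorem cov_model : Cfsg.Agent.H51.XX.Cov (gw aw) := tc_model

set_option maxRecDepth 100000 in
theorem chk_ne : run aw (bs 0) ≠ bs 0 := by decide +kernel

theorem order_aw : orderOf (gw aw) = 7 := by
  have : Fact (Nat.Prime 7) := ⟨by norm_num⟩
  refine orderOf_eq_prime gw_aw fun h => ?_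
  apply chk_ne
  obtain ⟨b0, -⟩ := bs_val
  rw [b0]
  have h1 : ((pw aw (0 : Fin 100) : Fin 100) : ℕ) = run aw ((0 : Fin 100) : ℕ) := pw_val aw 0
  have h2 : pw aw = 1 := congrArg Subtype.val h
  rw [h2] at h1
  exact h1.symm

/-- the form of helper51 -/
theorem rowXX {S : Type*} [Group S] (h : Spor.IsoJ2 S) : Cfsg.Agent.H51.XX.RowXX S := by
  obtain ⟨f⟩ := J2.HundredGens.J2_iso (NotCT.Orders.j2 ⟨MulEquiv.refl _⟩)
  obtain ⟨e⟩ := h
  have h1 : Cfsg.Agent.H51.XX.RowXX G := ⟨gw aw, by rw [order_aw]; norm_num, by rw [order_aw]; norm_num, cov_model⟩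
  exact h1.congr (e.trans f).symm

/-- two classes of elements of order prime to 6 -/
theorem tc6_j2 {S : Type*} [Group S] (h : Spor.IsoJ2 S) : ∃ x y : S, Nat.Coprime (orderOf x) 6 ∧
    Nat.Coprime (orderOf y) 6 ∧ ∀ g : S, g ≠ 1 → ∃ u v : S, g = (u * x * u⁻¹) * (v * y * v⁻¹) := by
  obtain ⟨f⟩ := J2.HundredGens.J2_iso (NotCT.Orders.j2 ⟨MulEquiv.refl _⟩)
  obtain ⟨e⟩ := h
  let E := e.trans f
  have ho : Nat.Coprime (orderOf (E.symm (gw aw))) 6 := by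
    have h1 : orderOf (E.symm (gw aw)) ∣ 7 := by
      apply orderOf_dvd_of_pow_eq_one
      rw [← map_pow, gw_aw, map_one]
    exact Nat.Coprime.coprime_dvd_left h1 (by norm_num)
  refine ⟨E.symm (gw aw), E.symm (gw aw), ho, ho, fun g hg => ?_⟩
  obtain ⟨a, b, hab⟩ := tc_model (E g) (fun h1 => hg (E.injective (by rw [h1, map_one])))
  refine ⟨E.symm a, E.symm b, ?_⟩
  apply E.injective
  simp only [map_mul, map_inv, MulEquiv.apply_symm_apply]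
  exact hab

/-- **J2** -/
theorem tc_j2 {S : Type*} [Group S] (h : Spor.IsoJ2 S) : Cfsg.Agent.H140.TC.TC S := by
  obtain ⟨x, y, -, -, h1⟩ := tc6_j2 h
  exact ⟨x, y, h1⟩

end Cfsg.Agent.H300.TC.JTwo
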